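import Mathlib
import Cfsg.Agent.EqLemmas

/-!
# Stabiliser chain certificates checked through tables

A group acts on a set through `ρ`; finitely many elements come with tables of their action on `d`
points, and equality in the group is decided on a short list `B` of points.

* `look`, `ev` : packed tables and the evaluation of words
* `Lev`, `chainOK` : the certificate
* `chain_spec` : order of the group and triviality of the stabiliser of all base points
* `relOK`, `rel_invariant` : an invariant relation between points, by neighbour lists and masks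
-/

set_option autoImplicit false

namespace Cfsg.Agent.StabCert

/-- Entry `i` of a packed table with lanes of `w` bits. -/
def look (w T i : ℕ) : ℕ := Nat.land (Nat.shiftRight T (Nat.mul w i)) (Nat.sub (Nat.pow 2 w) 1)

/-- Evaluation of a word, the last letter first. -/
def ev (w : ℕ) (tab : List ℕ) : List ℕ → ℕ → ℕ
  | [], β => β
  | k :: l, β => look w (tab.getD k 0) (ev w tab l β)

theorem ev_append (w : ℕ) (tab : List ℕ) : ∀ (l l' : List ℕ) (β : ℕ),
    ev w tab (l ++ l') β = ev w tab l (ev w tab l' β)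
  | [], _, _ => rfl
  | k :: l, l', β => congrArg (look w (tab.getD k 0)) (ev_append w tab l l' β)

/-- Hands a word over after its evaluation. -/
def onWord : List ℕ → (List ℕ → Bool) → Bool
  | [], f => f []
  | a :: l, f => f (a :: l)

theorem onWord_eq (l : List ℕ) (f : List ℕ → Bool) : onWord l f = f l := by cases l <;> rfl

/-- A level: base point, generators, words for the transversal, and the closure certificate. -/
structure Lev where
  b : ℕ
  gens : List ℕ
  words : List (List ℕ)
  cert : List (ℕ × List ℕ)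

/-- Generators of the first level. -/
def nextGens : List Lev → List ℕ
  | [] => []
  | L :: _ => L.gens

/-- Distinctness, by a bit mask. -/
def distinctFrom : List ℕ → ℕ → Bool
  | [], _ => true
  | a :: l, m => !m.testBit a && distinctFrom l (m ||| 1 <<< a)

/-- The closure certificate, entry by entry. -/
def certAll (w : ℕ) (tab B next : List ℕ) (words : List (List ℕ)) :
    List (List ℕ) → List (ℕ × List ℕ) → Bool
  | [], _ => true
  | _ :: _, [] => false
  | l :: ls, c :: cs => (Nat.blt c.1 words.length && c.2.all fun k => next.contains k) &&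
      (onWord (words.getD c.1 []) fun r =>
        B.all fun β => ev w tab l β == ev w tab r (ev w tab c.2 β)) &&
      certAll w tab B next words ls cs

/-- The checks of one level. -/
def levOK (w d m : ℕ) (tab B next : List ℕ) (L : Lev) : Bool :=
  Nat.blt L.b d && (L.gens.all fun k => Nat.blt k m) &&
    (next.all fun k => L.gens.contains k && look w (tab.getD k 0) L.b == L.b) &&
    (L.words.all fun l => l.all fun k => L.gens.contains k) && (L.words.headD [0]).isEmpty &&
    distinctFrom (L.words.map fun l => ev w tab l L.b) 0 &&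
    certAll w tab B next L.words (L.gens.flatMap fun g => L.words.map fun l => g :: l) L.cert

/-- The checks of a chain. -/
def chainOK (w d m : ℕ) (tab B : List ℕ) : List Lev → Bool
  | [] => true
  | L :: r => levOK w d m tab B (nextGens r) L && chainOK w d m tab B r

/-- The tables are packed into `w`-bit lanes with values below `d`. -/
def tableOK (w d : ℕ) (T : ℕ) : Bool := (List.range d).all fun i => Nat.blt (look w T i) d

theorem distinctFrom_spec : ∀ (l : List ℕ) (m : ℕ), distinctFrom l m = true →
    l.Nodup ∧ ∀ a ∈ l, m.testBit a = false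
  | [], _, _ => ⟨List.nodup_nil, fun _ h => absurd h List.not_mem_nil⟩
  | a :: l, m, h => by
    simp only [distinctFrom, Bool.and_eq_true, Bool.not_eq_true'] at h
    obtain ⟨h1, h2⟩ := distinctFrom_spec l _ h.2
    refine ⟨List.nodup_cons.2 ⟨fun ha => ?_, h1⟩, ?_⟩
    · have := h2 a ha
      simp [Nat.testBit_or, Nat.one_shiftLeft] at this
    · intro b hb
      rcases List.mem_cons.1 hb with rfl | hb
      · exact h.1
      · have := h2 b hb
        simp only [Nat.testBit_or, Bool.or_eq_false_iff] at this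
        exact this.1

theorem certAll_spec {w : ℕ} {tab B next : List ℕ} {words : List (List ℕ)} :
    ∀ (ls : List (List ℕ)) (cs : List (ℕ × List ℕ)), certAll w tab B next words ls cs = true →
      ∀ l ∈ ls, ∃ j, j < words.length ∧ ∃ low : List ℕ, (∀ k ∈ low, k ∈ next) ∧
        ∀ β ∈ B, ev w tab l β = ev w tab (words.getD j [] ++ low) β
  | [], _, _, l, hl => absurd hl List.not_mem_nil
  | _ :: _, [], h, _, _ => by simp [certAll] at h
  | l :: ls, c :: cs, h, x, hx => by
    simp only [certAll, onWord_eq, Bool.and_eq_true, List.all_eq_true, beq_iff_eq,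
      List.contains_iff_mem, Nat.blt_eq, ← ev_append] at h
    rcases List.mem_cons.1 hx with rfl | hx
    · exact ⟨c.1, h.1.1.1, c.2, h.1.1.2, h.1.2⟩
    · exact certAll_spec ls cs h.2 x hx

theorem getElem_zero_of_head {l : List (List ℕ)} (h : (l.headD [0]).isEmpty = true)
    (hp : 0 < l.length) : l[0] = [] := by
  cases l with
  | nil => simp at hp
  | cons a l => simpa using h

section spec

variable {G X : Type*} [Group G] (ρ : G →* Equiv.Perm X) (gen : ℕ → G) (pt : ℕ → X)
variable (w d m : ℕ) (tab B : List ℕ)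

/-- The subgroup generated by some letters. -/
def sub (l : List ℕ) : Subgroup G := Subgroup.closure (gen '' {k | k ∈ l})

/-- The element of a word. -/
def wordEl (l : List ℕ) : G := (l.map gen).prod

theorem gen_mem_sub {l : List ℕ} {k : ℕ} (h : k ∈ l) : gen k ∈ sub gen l :=
  Subgroup.subset_closure ⟨k, h, rfl⟩

theorem wordEl_mem {l s : List ℕ} (h : ∀ k ∈ l, k ∈ s) : wordEl gen l ∈ sub gen s := by
  refine Subgroup.list_prod_mem _ fun x hx => ?_
  obtain ⟨k, hk, rfl⟩ := List.mem_map.1 hx
  exact gen_mem_sub gen (h k hk)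

theorem wordEl_append (l l' : List ℕ) : wordEl gen (l ++ l') = wordEl gen l * wordEl gen l' := by
  simp [wordEl, List.map_append, List.prod_append]

/-- The hypotheses on the tables. -/
def TablesSound : Prop :=
  ∀ k < m, ∀ i < d, look w (tab.getD k 0) i < d ∧ ρ (gen k) (pt i) = pt (look w (tab.getD k 0) i)

variable {ρ gen pt w d m tab B}

theorem ev_spec (hact : TablesSound ρ gen pt w d m tab) :
    ∀ (l : List ℕ), (∀ k ∈ l, k < m) → ∀ β < d,
      ev w tab l β < d ∧ ρ (wordEl gen l) (pt β) = pt (ev w tab l β)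
  | [], _, β, hβ => ⟨hβ, by simp [ev, wordEl]⟩
  | k :: l, hl, β, hβ => by
    obtain ⟨h1, h2⟩ := ev_spec hact l (fun a ha => hl a (List.mem_cons_of_mem _ ha)) β hβ
    obtain ⟨h3, h4⟩ := hact k (hl k List.mem_cons_self) _ h1
    refine ⟨h3, ?_⟩
    show ρ (wordEl gen (k :: l)) (pt β) = _
    rw [show wordEl gen (k :: l) = gen k * wordEl gen l from by simp [wordEl], map_mul,
      Equiv.Perm.mul_apply, h2, h4]
    rfl

variable [Finite G]

theorem chain_spec (hact : TablesSound ρ gen pt w d m tab)
    (hinj : Set.InjOn pt {i | i < d}) (hB : ∀ β ∈ B, β < d)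
    (hdet : ∀ g ∈ sub gen (List.range m), (∀ β ∈ B, ρ g (pt β) = pt β) → g = 1) :
    ∀ ch : List Lev, chainOK w d m tab B ch = true →
      (∀ k ∈ nextGens ch, k < m) ∧ Nat.card (sub gen (nextGens ch)) = (ch.map fun L => L.words.length).prod ∧
        ∀ g ∈ sub gen (nextGens ch), (∀ L ∈ ch, ρ g (pt L.b) = pt L.b) → g = 1
  | [], _ => by
    have h : sub gen (nextGens []) = ⊥ := by simp [sub, nextGens]
    rw [h]
    exact ⟨fun k hk => absurd hk List.not_mem_nil, by simp, fun g hg _ => Subgroup.mem_bot.1 hg⟩
  | L :: r, h => by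
    simp only [chainOK, Bool.and_eq_true] at h
    obtain ⟨hlev, hr⟩ := h
    obtain ⟨-, hcard, htriv⟩ := chain_spec hact hinj hB hdet r hr
    simp only [levOK, Bool.and_eq_true, List.all_eq_true, beq_iff_eq, List.contains_iff_mem,
      Nat.blt_eq] at hlev
    obtain ⟨⟨⟨⟨⟨⟨hb, hgm⟩, hnext⟩, hwg⟩, hhead⟩, hdist⟩, hcert⟩ := hlev
    set K := sub gen (nextGens r) with hK
    set H := sub gen L.gens with hH
    have hKH : K ≤ H := Subgroup.closure_mono (Set.image_mono fun k hk => (hnext k hk).1)
    have hKfix : ∀ k ∈ K, ρ k (pt L.b) = pt L.b := by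
      intro k hk
      have hle : K ≤ (MulAction.stabilizer (Equiv.Perm X) (pt L.b)).comap ρ := by
        rw [hK, sub, Subgroup.closure_le]
        rintro _ ⟨j, hj, rfl⟩
        obtain ⟨hjg, hjb⟩ := hnext j hj
        have := (hact j (hgm j hjg) L.b hb).2
        rw [hjb] at this
        exact this
      exact hle hk
    have hwm : ∀ i : Fin L.words.length, ∀ k ∈ L.words[i.val], k ∈ L.gens := fun i k hk =>
      hwg _ (List.getElem_mem i.isLt) k hk
    set R : Fin L.words.length → G := fun i => wordEl gen L.words[i.val] with hR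
    have hRb : ∀ i, ρ (R i) (pt L.b) = pt (ev w tab L.words[i.val] L.b) ∧
        ev w tab L.words[i.val] L.b < d := fun i =>
      ⟨(ev_spec hact _ (fun k hk => hgm k (hwm i k hk)) _ hb).2,
        (ev_spec hact _ (fun k hk => hgm k (hwm i k hk)) _ hb).1⟩
    have hpos : 0 < L.words.length := by
      rcases hw : L.words with _ | ⟨a, l⟩
      · rw [hw] at hhead; simp at hhead
      · simp
    have h0 : R ⟨0, hpos⟩ = 1 := by
      simp [hR, getElem_zero_of_head hhead hpos, wordEl]
    have hRinj : Function.Injective fun i => ρ (R i) (pt L.b) := by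
      intro i j e
      simp only [(hRb i).1, (hRb j).1] at e
      have e' := hinj (hRb i).2 (hRb j).2 e
      have hnd := (distinctFrom_spec _ _ hdist).1
      refine Fin.ext ((hnd.getElem_inj_iff (i := i.val) (j := j.val)
        (hi := by simp) (hj := by simp)).1 ?_)
      simpa using e'
    have hcl : ∀ g ∈ gen '' {k | k ∈ L.gens}, ∀ i, ∃ j, ∃ k ∈ K, g * R i = R j * k := by
      rintro _ ⟨a, ha, rfl⟩ i
      obtain ⟨j, hj, low, hlow, heq⟩ := certAll_spec _ _ hcert (a :: L.words[i.val])
        (List.mem_flatMap.2 ⟨a, ha, List.mem_map.2 ⟨_, List.getElem_mem i.isLt, rfl⟩⟩)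
      refine ⟨⟨j, hj⟩, wordEl gen low, wordEl_mem gen hlow, ?_⟩
      rw [show gen a * R i = wordEl gen (a :: L.words[i.val]) from by simp [hR, wordEl],
        show R ⟨j, hj⟩ * wordEl gen low = wordEl gen (L.words.getD j [] ++ low) from by
          rw [wordEl_append, List.getD_eq_getElem _ _ hj]]
      have hl1 : ∀ k ∈ a :: L.words[i.val], k < m := fun k hk => by
        rcases List.mem_cons.1 hk with rfl | hk
        · exact hgm _ ha
        · exact hgm k (hwm i k hk)
      have hl2 : ∀ k ∈ L.words.getD j [] ++ low, k < m := fun k hk => by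
        rw [List.getD_eq_getElem _ _ hj] at hk
        rcases List.mem_append.1 hk with hk | hk
        · exact hgm k (hwm ⟨j, hj⟩ k hk)
        · exact hgm k (hnext k (hlow k hk)).1
      rw [← mul_inv_eq_one]
      refine hdet _ (mul_mem (wordEl_mem gen fun k hk => List.mem_range.2 (hl1 k hk))
        (inv_mem (wordEl_mem gen fun k hk => List.mem_range.2 (hl2 k hk)))) fun β hβ => ?_
      -- both words agree on `B`, hence on the preimages
      obtain ⟨g2, hg2⟩ : ∃ g2, g2 = wordEl gen (L.words.getD j [] ++ low) := ⟨_, rfl⟩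
      obtain ⟨g1, hg1⟩ : ∃ g1, g1 = wordEl gen (a :: L.words[i.val]) := ⟨_, rfl⟩
      rw [← hg1, ← hg2]
      have hagree : ∀ γ ∈ B, ρ g1 (pt γ) = ρ g2 (pt γ) := fun γ hγ => by
        rw [hg1, hg2, (ev_spec hact _ hl1 γ (hB γ hγ)).2, (ev_spec hact _ hl2 γ (hB γ hγ)).2,
          heq γ hγ]
      have hone : g2⁻¹ * g1 = 1 := by
        refine hdet _ ?_ fun γ hγ => ?_
        · rw [hg1, hg2]
          exact mul_mem (inv_mem (wordEl_mem gen fun k hk => List.mem_range.2 (hl2 k hk)))
            (wordEl_mem gen fun k hk => List.mem_range.2 (hl1 k hk))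
        · rw [map_mul, Equiv.Perm.mul_apply, hagree γ hγ, map_inv, Equiv.Perm.inv_def,
            Equiv.symm_apply_apply]
      rw [inv_mul_eq_one] at hone
      rw [hone, mul_inv_cancel, map_one, Equiv.Perm.one_apply]
    have hall : ∀ g ∈ H, ∃ i, ∃ k ∈ K, g = R i * k := by
      intro g hg
      rw [hH, sub, ← Subgroup.mem_toSubmonoid, Subgroup.closure_toSubmonoid_of_finite] at hg
      induction hg using Submonoid.closure_induction_left with
      | one => exact ⟨⟨0, hpos⟩, 1, one_mem _, by rw [h0, mul_one]⟩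
      | mul_left x hx y _ ih =>
        obtain ⟨i, k, hk, rfl⟩ := ih
        obtain ⟨j, k', hk', e⟩ := hcl x hx i
        exact ⟨j, k' * k, mul_mem hk' hk, by rw [← mul_assoc, e, mul_assoc]⟩
    have hRH : ∀ i, R i ∈ H := fun i => wordEl_mem gen (hwm i)
    have hRk : ∀ i, ∀ k ∈ K, ρ (R i * k) (pt L.b) = ρ (R i) (pt L.b) := fun i k hk => by
      rw [map_mul, Equiv.Perm.mul_apply, hKfix k hk]
    refine ⟨hgm, ?_, fun g hg hfix => ?_⟩
    · let F : Fin L.words.length × K → H := fun p => ⟨R p.1 * p.2, mul_mem (hRH _) (hKH p.2.2)⟩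
      have hF : Function.Bijective F := by
        refine ⟨fun p q e => ?_, fun g => ?_⟩
        · have e' : R p.1 * p.2 = R q.1 * q.2 := congrArg Subtype.val e
          have e1 : p.1 = q.1 := hRinj (by
            show ρ (R p.1) (pt L.b) = ρ (R q.1) (pt L.b)
            rw [← hRk p.1 _ p.2.2, ← hRk q.1 _ q.2.2, e'])
          exact Prod.ext e1 (Subtype.ext (by rw [e1] at e'; exact mul_left_cancel e'))
        · obtain ⟨i, k, hk, e⟩ := hall g g.2
          exact ⟨(i, ⟨k, hk⟩), Subtype.ext e.symm⟩
      show Nat.card H = _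
      rw [← Nat.card_eq_of_bijective F hF, Nat.card_prod, Nat.card_fin, hK, hcard]
      simp
    · obtain ⟨i, k, hk, rfl⟩ := hall g hg
      have e := hfix L List.mem_cons_self
      rw [hRk i k hk] at e
      have : i = ⟨0, hpos⟩ := hRinj (by simpa [h0] using e)
      subst this
      rw [h0, one_mul] at hfix ⊢
      exact htriv k hk fun L' hL' => hfix L' (List.mem_cons_of_mem _ hL')

end spec

/-- The mask of a list of points. -/
def maskL : List ℕ → ℕ
  | [] => 0
  | a :: l => Nat.lor (Nat.shiftLeft 1 a) (maskL l)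

theorem testBit_maskL : ∀ (l : List ℕ) (b : ℕ), (maskL l).testBit b = true ↔ b ∈ l
  | [], b => by simp [maskL]
  | a :: l, b => by
    show (1 <<< a ||| maskL l).testBit b = true ↔ _
    rw [Nat.testBit_or, Bool.or_eq_true, testBit_maskL l b, Nat.one_shiftLeft,
      Nat.testBit_two_pow, decide_eq_true_eq, List.mem_cons, eq_comm (a := a)]

/-- One table respects the relation given by the neighbour lists `nb` with masks `mk`. -/
def relTab (w dL T : ℕ) (nb : ℕ → List ℕ) (mk : ℕ → ℕ) : Bool :=
  (List.range dL).all fun i => Nat.blt (look w T i) dL &&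
    maskL ((nb i).map (look w T)) == mk (look w T i)

/-- The lists fit their masks, and the masks separate the points of `sep`. -/
def relBase (dL d : ℕ) (nb : ℕ → List ℕ) (mk : ℕ → ℕ) (sep : List ℕ) : Bool :=
  ((List.range dL).all fun i => mk i == maskL (nb i) &&
    (nb i).all fun b => Nat.ble dL b && Nat.blt b d) &&
  sep.all fun i => (List.range dL).all fun j => !(mk j == mk i) || j == i

section rel

variable {G X : Type*} [Group G] [Finite G] {ρ : G →* Equiv.Perm X} {gen : ℕ → G} {pt : ℕ → X}
variable {w d m : ℕ} {tab : List ℕ} {dL : ℕ} {nb : ℕ → List ℕ} {mk : ℕ → ℕ} {sep : List ℕ}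

/-- An element fixing all points from `dL` on fixes the separated points. -/
theorem fix_of_rel (hact : TablesSound ρ gen pt w d m tab) (hinj : Set.InjOn pt {i | i < d})
    (hdL : dL ≤ d) (hb : relBase dL d nb mk sep = true)
    (ht : ∀ k < m, relTab w dL (tab.getD k 0) nb mk = true) {g : G}
    (hg : g ∈ sub gen (List.range m)) (hfix : ∀ b, dL ≤ b → b < d → ρ g (pt b) = pt b) :
    ∀ i ∈ sep, i < dL → ρ g (pt i) = pt i := by
  simp only [relBase, Bool.and_eq_true, List.all_eq_true, List.mem_range, beq_iff_eq, Nat.blt_eq,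
    Nat.ble_eq, Bool.or_eq_true, Bool.not_eq_true', beq_eq_false_iff_ne] at hb
  obtain ⟨hnb, hsep⟩ := hb
  have hmk : ∀ i < dL, ∀ b, (mk i).testBit b = true ↔ b ∈ nb i := fun i hi b => by
    rw [(hnb i hi).1, testBit_maskL]
  have key : ∀ g ∈ sub gen (List.range m), ∀ i < dL, ∃ j < dL, ρ g (pt i) = pt j ∧
      pt '' {b | b ∈ nb j} = ρ g '' (pt '' {b | b ∈ nb i}) := by
    intro g hg
    rw [sub, ← Subgroup.mem_toSubmonoid, Subgroup.closure_toSubmonoid_of_finite] at hg
    induction hg using Submonoid.closure_induction_left with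
    | one => exact fun i hi => ⟨i, hi, by simp, by simp⟩
    | mul_left x hx y _ ih =>
      intro i hi
      obtain ⟨j, hj, e1, e2⟩ := ih i hi
      obtain ⟨k, hk, rfl⟩ := hx
      have hk' : k < m := List.mem_range.1 hk
      have hr := ht k hk'
      simp only [relTab, Bool.and_eq_true, List.all_eq_true, List.mem_range, beq_iff_eq,
        Nat.blt_eq] at hr
      obtain ⟨hl, he⟩ := hr j hj
      refine ⟨look w (tab.getD k 0) j, hl, ?_, ?_⟩
      · rw [map_mul, Equiv.Perm.mul_apply, e1, (hact k hk' j (hj.trans_le hdL)).2]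
      · have hset : ∀ b, b ∈ nb (look w (tab.getD k 0) j) ↔
            ∃ a ∈ nb j, look w (tab.getD k 0) a = b := fun b => by
          rw [← hmk _ hl, ← he, testBit_maskL, List.mem_map]
        rw [map_mul, Equiv.Perm.coe_mul, Set.image_comp, ← e2]
        have hstep : ∀ a ∈ nb j, ρ (gen k) (pt a) = pt (look w (tab.getD k 0) a) := fun a ha =>
          (hact k hk' a ((hnb j hj).2 a ha).2).2
        ext z
        constructor
        · rintro ⟨b, hb, rfl⟩
          obtain ⟨a, ha, rfl⟩ := (hset b).1 hb
          exact ⟨pt a, ⟨a, ha, rfl⟩, hstep a ha⟩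
        · rintro ⟨_, ⟨a, ha, rfl⟩, rfl⟩
          exact ⟨_, (hset _).2 ⟨a, ha, rfl⟩, (hstep a ha).symm⟩
  intro i hi hiL
  obtain ⟨j, hj, e1, e2⟩ := key g hg i hiL
  have e3 : pt '' {b | b ∈ nb j} = pt '' {b | b ∈ nb i} := by
    rw [e2]
    conv_rhs => rw [← Set.image_id (pt '' {b | b ∈ nb i})]
    refine Set.image_congr fun z hz => ?_
    obtain ⟨b, hb, rfl⟩ := hz
    exact hfix b ((hnb i hiL).2 b hb).1 ((hnb i hiL).2 b hb).2
  have hsub : ∀ i < dL, {b | b ∈ nb i} ⊆ {b | b < d} := fun i hi b hb => ((hnb i hi).2 b hb).2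
  have e4 : {b | b ∈ nb j} = {b | b ∈ nb i} := (hinj.image_eq_image_iff (hsub j hj) (hsub i hiL)).1 e3
  have e5 : mk j = mk i := Nat.eq_of_testBit_eq fun b => by
    rw [Bool.eq_iff_iff, hmk j hj, hmk i hiL]
    exact Set.ext_iff.1 e4 b
  rcases hsep i hi j hj with h | h
  · exact absurd e5 h
  · rw [e1, h]

end rel

end Cfsg.Agent.StabCert
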