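import Cfsg.Agent.Lib.Unitary.Simple
import Cfsg.Agent.Lib.Unitary.Center

/-!
# Explicit elements of unitary groups over `ZMod p [ω]`

* `Quad p a b`, `qe`, `Quad.exists_hom` : the model of a field of order `p²`
* `suOK`, `suOf` : an element of `SU` from a matrix over the model
* `lineOK`, `lineOf`, `perm_mk`, `lineOf_inj` : isotropic lines from vectors over the model
* `permHom`, `nonempty_range_permHom` : the image on isotropic lines is `PSU`
* `mem_center_of_fix` : fixing `n + 1` lines in general position forces a scalar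
-/

set_option autoImplicit false

open scoped Matrix

namespace Cfsg.Agent.StabCert

open Cfsg.Agent.Unitary

/-- The quadratic extension `ω² = a + b ω` of `ZMod p`. -/
abbrev Quad (p a b : ℕ) : Type := QuadraticAlgebra (ZMod p) (a : ZMod p) (b : ZMod p)

/-- The element with code `c = re + p * im`. -/
def qe (p a b : ℕ) (c : ℕ) : Quad p a b := ⟨((c % p : ℕ) : ZMod p), ((c / p : ℕ) : ZMod p)⟩

/-- A vector of the model given by codes. -/
def qvec (p a b n : ℕ) (l : List ℕ) : Fin n → Quad p a b := fun i => qe p a b (l.getD i.val 0)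

/-- A matrix of the model given by rows of codes. -/
def qmat (p a b n : ℕ) (L : List (List ℕ)) : Matrix (Fin n) (Fin n) (Quad p a b) :=
  Matrix.of fun i => qvec p a b n (L.getD i.val [])

section model

variable {p a b : ℕ} {F : Type} [Field F] [Fintype F]

theorem Quad.exists_hom [Fact p.Prime] (hF : Fintype.card F = p ^ 2) (ω : F)
    (h : ω * ω = (a : F) + (b : F) * ω) (hc : ω ^ p = (b : F) - ω) :
    ∃ φ : Quad p a b →+* F, ∀ z, φ (star z) = φ z ^ p := by
  have : CharP F p := charP_of_card_eq_prime_pow hF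
  let : Algebra (ZMod p) F := ZMod.algebra F p
  have hu : ω * ω = (a : ZMod p) • (1 : F) + (b : ZMod p) • ω := by
    rw [Algebra.smul_def, Algebra.smul_def, map_natCast, map_natCast, mul_one, h]
  refine ⟨(QuadraticAlgebra.lift ⟨ω, hu⟩).toRingHom, fun z => ?_⟩
  have hz : ∀ y : Quad p a b, (QuadraticAlgebra.lift ⟨ω, hu⟩).toRingHom y =
      algebraMap (ZMod p) F y.re + algebraMap (ZMod p) F y.im * ω := fun y => by
    show y.re • (1 : F) + y.im • ω = _
    rw [Algebra.smul_def, Algebra.smul_def, mul_one]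
  rw [hz, hz, add_pow_char, mul_pow, ← map_pow, ← map_pow, ZMod.pow_card, ZMod.pow_card, hc,
    QuadraticAlgebra.re_star, QuadraticAlgebra.im_star, map_add, map_mul, map_neg, map_natCast]
  ring

end model

/-- Every nonzero code has an inverse. -/
def unitsOK (p a b : ℕ) : Bool :=
  decide (∀ c : Fin (p * p), c.val = 0 ∨ ∃ d : Fin (p * p), qe p a b c.val * qe p a b d.val = 1)

theorem qe_surjective {p a b : ℕ} [NeZero p] (z : Quad p a b) : ∃ c < p * p, qe p a b c = z := by
  refine ⟨z.re.val + p * z.im.val, ?_, ?_⟩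
  · have h1 := z.re.val_lt
    have h2 := z.im.val_lt
    nlinarith
  · have h1 := z.re.val_lt
    refine QuadraticAlgebra.ext ?_ ?_
    · show (((z.re.val + p * z.im.val) % p : ℕ) : ZMod p) = _
      rw [Nat.add_mul_mod_self_left, Nat.mod_eq_of_lt h1, ZMod.natCast_zmod_val]
    · show (((z.re.val + p * z.im.val) / p : ℕ) : ZMod p) = _
      rw [Nat.add_mul_div_left _ _ (NeZero.pos p), Nat.div_eq_of_lt h1, zero_add,
        ZMod.natCast_zmod_val]

theorem Quad.hom_injective {p a b : ℕ} [NeZero p] {F : Type} [Field F] (h : unitsOK p a b = true)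
    (φ : Quad p a b →+* F) : Function.Injective φ := by
  refine (injective_iff_map_eq_zero φ).2 fun z hz => ?_
  obtain ⟨c, hc, rfl⟩ := qe_surjective z
  simp only [unitsOK, decide_eq_true_eq] at h
  rcases h ⟨c, hc⟩ with e | ⟨d, e⟩
  · simp [qe, show c = 0 from e]; rfl
  · have := congrArg φ e
    rw [map_mul, hz, zero_mul, map_one] at this
    exact absurd this zero_ne_one

variable {p a b n : ℕ} {F : Type} [Field F] [Fintype F]

/-- The Hermitian form on the model. -/
def qherm (u v : Fin n → Quad p a b) : Quad p a b := ∑ k, u k * star (v k)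

/-- The matrix is unitary of determinant one. -/
def suOK (U : Matrix (Fin n) (Fin n) (Quad p a b)) : Bool :=
  decide (∀ i j, qherm (Uᵀ i) (Uᵀ j) = if i = j then 1 else 0) && decide (U.det = 1)

/-- The vector is isotropic and its first nonzero entry is one. -/
def lineOK (u : Fin n → Quad p a b) : Bool :=
  decide (qherm u u = 0) && decide (∃ l, u l = 1 ∧ ∀ i < l, u i = 0)

/-- Addition of codes. -/
def addC (p : ℕ) (x y : ℕ) : ℕ := (x % p + y % p) % p + p * ((x / p + y / p) % p)

/-- Multiplication of codes. -/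
def mulC (p a b : ℕ) (x y : ℕ) : ℕ :=
  ((x % p) * (y % p) + a * ((x / p) * (y / p))) % p +
    p * (((x % p) * (y / p) + (x / p) * (y % p) + b * ((x / p) * (y / p))) % p)

theorem qe_code [NeZero p] (u v : ℕ) :
    qe p a b (u % p + p * (v % p)) = ⟨(u : ZMod p), (v : ZMod p)⟩ := by
  refine QuadraticAlgebra.ext ?_ ?_
  · show (((u % p + p * (v % p)) % p : ℕ) : ZMod p) = (u : ZMod p)
    rw [Nat.add_mul_mod_self_left, Nat.mod_mod, ZMod.natCast_mod]
  · show (((u % p + p * (v % p)) / p : ℕ) : ZMod p) = (v : ZMod p)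
    rw [Nat.add_mul_div_left _ _ (NeZero.pos p), Nat.div_eq_of_lt (Nat.mod_lt _ (NeZero.pos p)),
      zero_add, ZMod.natCast_mod]

theorem qe_addC [NeZero p] (x y : ℕ) : qe p a b (addC p x y) = qe p a b x + qe p a b y := by
  rw [addC, qe_code]
  refine QuadraticAlgebra.ext ?_ ?_ <;> simp [qe]

theorem qe_mulC [NeZero p] (x y : ℕ) : qe p a b (mulC p a b x y) = qe p a b x * qe p a b y := by
  rw [mulC, qe_code]
  refine QuadraticAlgebra.ext ?_ ?_ <;> simp [qe, mul_assoc] <;> ring

/-- The scalar product of code lists. -/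
def dotC (p a b : ℕ) : List ℕ → List ℕ → ℕ
  | x :: r, y :: v => addC p (mulC p a b x y) (dotC p a b r v)
  | [], _ => 0
  | _ :: _, [] => 0

theorem qe_zero [NeZero p] : qe p a b 0 = 0 := by
  refine QuadraticAlgebra.ext ?_ ?_ <;> simp [qe]

theorem qe_dotC [NeZero p] : ∀ (r v : List ℕ), qe p a b (dotC p a b r v) =
    ∑ j ∈ Finset.range v.length, qe p a b (r.getD j 0) * qe p a b (v.getD j 0)
  | [], v => by simp [dotC, qe_zero]
  | _ :: _, [] => by simp [dotC, qe_zero]
  | x :: r, y :: v => by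
    rw [dotC, qe_addC, qe_mulC, qe_dotC r v, List.length_cons, Finset.sum_range_succ']
    simp [add_comm]

/-- The image `y` is a multiple of `u`. -/
def propTo (p a b n : ℕ) (y u : List ℕ) : Bool :=
  (List.range n).any fun l => (List.range n).all fun i =>
    y.getD i 0 == addC p (mulC p a b (y.getD l 0) (u.getD i 0)) 0

/-- The image of a vector is a multiple of another. -/
def propOK (p a b n : ℕ) (U : List (List ℕ)) (u u' : List ℕ) : Bool :=
  u.length == n && propTo p a b n (U.map fun r => dotC p a b r u) u'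

theorem propOK_spec [NeZero p] {U : List (List ℕ)} {u u' : List ℕ}
    (h : propOK p a b n U u u' = true) : ∃ l, qmat p a b n U *ᵥ qvec p a b n u =
      (qmat p a b n U *ᵥ qvec p a b n u) l • qvec p a b n u' := by
  simp only [propOK, propTo, Bool.and_eq_true, List.any_eq_true, List.all_eq_true, List.mem_range,
    beq_iff_eq] at h
  obtain ⟨hu, l, hl, hall⟩ := h
  have e : ∀ i : Fin n, (qmat p a b n U *ᵥ qvec p a b n u) i =
      qe p a b ((U.map fun r => dotC p a b r u).getD i.val 0) := fun i => by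
    rw [show (0 : ℕ) = dotC p a b [] u from rfl, List.getD_map (f := fun r => dotC p a b r u),
      qe_dotC, hu, Finset.sum_range]
    rfl
  refine ⟨⟨l, hl⟩, funext fun i => ?_⟩
  rw [Pi.smul_apply, smul_eq_mul, e, e, hall i.val i.isLt, qe_addC, qe_mulC, qe_zero, add_zero]
  rfl

variable (φ : Quad p a b →+* F) (hφ : ∀ z, φ (star z) = φ z ^ p)

include hφ in
theorem map_qherm (u v : Fin n → Quad p a b) :
    φ (qherm u v) = Cfsg.hermForm n F p (φ ∘ u) (φ ∘ v) := by
  simp [qherm, Cfsg.hermForm, hφ]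

/-- The element of `SU` of a checked matrix. -/
noncomputable def suOf (hF : Fintype.card F = p ^ 2) (U : Matrix (Fin n) (Fin n) (Quad p a b))
    (h : suOK U = true) : Cfsg.SU n F p :=
  suOfUnitary (U.map φ)
    ((isUnitary_iff_orthonormal hF _).2 (by
      simp only [suOK, Bool.and_eq_true, decide_eq_true_eq] at h
      refine ⟨fun i => ?_, fun i j hij => ?_⟩
      · show Cfsg.hermForm n F p (φ ∘ Uᵀ i) (φ ∘ Uᵀ i) = 1
        rw [← map_qherm φ hφ, h.1 i i, if_pos rfl, map_one]
      · show Cfsg.hermForm n F p (φ ∘ Uᵀ i) (φ ∘ Uᵀ j) = 0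
        rw [← map_qherm φ hφ, h.1 i j, if_neg hij, map_zero]))
    (by
      simp only [suOK, Bool.and_eq_true, decide_eq_true_eq] at h
      rw [← RingHom.mapMatrix_apply, ← RingHom.map_det, h.2, map_one])

/-- The line of a checked vector. -/
noncomputable def lineOf (u : Fin n → Quad p a b) (h : lineOK u = true) : IsoLine n F p :=
  IsoLine.mk (φ ∘ u)
    (by
      simp only [lineOK, Bool.and_eq_true, decide_eq_true_eq] at h
      obtain ⟨l, hl, -⟩ := h.2
      intro e
      simpa [hl] using congrFun e l)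
    (by
      simp only [lineOK, Bool.and_eq_true, decide_eq_true_eq] at h
      rw [← map_qherm φ hφ, h.1, map_zero])

theorem smul_lineOf (hF : Fintype.card F = p ^ 2) {U : Matrix (Fin n) (Fin n) (Quad p a b)}
    (hU : suOK U = true) {u u' : Fin n → Quad p a b} (hu : lineOK u = true) (hu' : lineOK u' = true)
    (h : ∃ l, U *ᵥ u = (U *ᵥ u) l • u') :
    suOf φ hφ hF U hU • lineOf φ hφ u hu = lineOf φ hφ u' hu' := by
  rw [lineOf, lineOf, IsoLine.smul_mk, IsoLine.mk_eq_iff]
  obtain ⟨l, hl⟩ := h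
  refine ⟨φ ((U *ᵥ u) l), funext fun i => ?_⟩
  show φ ((U *ᵥ u) l) * φ (u' i) = (U.map φ *ᵥ (φ ∘ u)) i
  rw [← map_mul, ← RingHom.map_mulVec]
  exact congrArg φ (congrFun hl i).symm

theorem lineOf_inj (hinj : Function.Injective φ) {u u' : Fin n → Quad p a b} (hu : lineOK u = true)
    (hu' : lineOK u' = true) (h : lineOf φ hφ u hu = lineOf φ hφ u' hu') : u = u' := by
  obtain ⟨c, hc⟩ := IsoLine.mk_eq_iff.1 h
  simp only [lineOK, Bool.and_eq_true, decide_eq_true_eq] at hu hu'
  obtain ⟨l, hl, hl0⟩ := hu.2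
  obtain ⟨l', hl', hl0'⟩ := hu'.2
  have e : ∀ i, c * φ (u' i) = φ (u i) := fun i => congrFun hc i
  rcases lt_trichotomy l l' with h' | h' | h'
  · have := e l
    rw [hl0' l h', hl, map_zero, map_one, mul_zero] at this
    exact absurd this zero_ne_one
  · subst h'
    have := e l
    rw [hl', hl, map_one, mul_one] at this
    funext i
    apply hinj
    rw [← e i, this, one_mul]
  · have h1 := e l'
    rw [hl0 l' h', hl', map_zero, map_one, mul_one] at h1
    have := e l
    rw [h1, zero_mul, hl, map_one] at this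
    exact absurd this zero_ne_one

/-- The action on isotropic lines. -/
def permHom (n : ℕ) (F : Type) [Field F] (p : ℕ) : Cfsg.SU n F p →* Equiv.Perm (IsoLine n F p) :=
  MulAction.toPermHom _ _

theorem ker_permHom (hF : Fintype.card F = p ^ 2) (hn : 2 ≤ n) :
    (permHom n F p).ker = Subgroup.center (Cfsg.SU n F p) := by
  ext g
  rw [MonoidHom.mem_ker, mem_center_SU_iff hF hn]
  constructor
  · intro h
    refine scalar_of_fixes_iso hF hn _ fun v hv hv0 => ?_
    have : g • IsoLine.mk v hv hv0 = IsoLine.mk v hv hv0 :=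
      congrArg (fun f : Equiv.Perm (IsoLine n F p) => f (IsoLine.mk v hv hv0)) h
    rw [IsoLine.smul_mk, IsoLine.mk_eq_iff] at this
    obtain ⟨c, hc⟩ := this
    exact ⟨c, hc.symm⟩
  · rintro ⟨z, hz⟩
    refine Equiv.ext fun P => ?_
    obtain ⟨v, hv, hv0, rfl⟩ := P.exists_mk
    show g • IsoLine.mk v hv hv0 = IsoLine.mk v hv hv0
    rw [IsoLine.smul_mk, IsoLine.mk_eq_iff]
    exact ⟨z, by rw [suAct, hz]; simp [Matrix.scalar, Matrix.mulVec_diagonal, funext_iff]⟩

theorem nonempty_range_permHom (hF : Fintype.card F = p ^ 2) (hn : 2 ≤ n) :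
    Nonempty ((permHom n F p).range ≃* Cfsg.PSU n F p) :=
  ⟨(QuotientGroup.quotientKerEquivRange _).symm.trans
    (QuotientGroup.quotientMulEquivOfEq (ker_permHom hF hn))⟩

/-- Lines in general position: a basis with inverse and a vector with all coordinates units. -/
def genPosOK (W W' : Matrix (Fin n) (Fin n) (Quad p a b)) (u : Fin n → Quad p a b) : Bool :=
  decide (W * W' = 1) && decide (∀ i, ∃ j : Fin (p * p), (W' *ᵥ u) i * qe p a b j.val = 1)

theorem mem_center_of_fix (hF : Fintype.card F = p ^ 2) (hn : 2 ≤ n)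
    {W W' : Matrix (Fin n) (Fin n) (Quad p a b)} {u : Fin n → Quad p a b}
    (h : genPosOK W W' u = true) (hW : ∀ i, lineOK (Wᵀ i) = true) (hu : lineOK u = true)
    (g : Cfsg.SU n F p) (hfix : ∀ i, g • lineOf φ hφ (Wᵀ i) (hW i) = lineOf φ hφ (Wᵀ i) (hW i))
    (hfu : g • lineOf φ hφ u hu = lineOf φ hφ u hu) : g ∈ Subgroup.center (Cfsg.SU n F p) := by
  simp only [genPosOK, Bool.and_eq_true, decide_eq_true_eq] at h
  obtain ⟨hWW, hunit⟩ := h
  set M := ((g : Matrix.SpecialLinearGroup (Fin n) F) : Matrix (Fin n) (Fin n) F) with hM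
  set V := W.map φ with hV
  set V' := W'.map φ with hV'
  have hVV : V * V' = 1 := by
    rw [hV, hV', ← Matrix.map_mul, hWW, Matrix.map_one _ (map_zero φ) (map_one φ)]
  have hVV' : V' * V = 1 := mul_eq_one_comm.1 hVV
  have hc : ∀ i, ∃ c : F, M *ᵥ Vᵀ i = c • Vᵀ i := fun i => by
    have := hfix i
    rw [lineOf, IsoLine.smul_mk, IsoLine.mk_eq_iff] at this
    obtain ⟨c, hc⟩ := this
    exact ⟨c, hc.symm⟩
  choose c hc using hc
  obtain ⟨d, hd⟩ : ∃ d : F, M *ᵥ (φ ∘ u) = d • (φ ∘ u) := by
    rw [lineOf, IsoLine.smul_mk, IsoLine.mk_eq_iff] at hfu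
    obtain ⟨c, hc⟩ := hfu
    exact ⟨c, hc.symm⟩
  have hMV : M * V = V * Matrix.diagonal c := by
    ext i j
    rw [Matrix.mul_diagonal, mul_comm]
    exact congrFun (hc j) i
  set α := V' *ᵥ (φ ∘ u) with hα
  have hα0 : ∀ i, α i ≠ 0 := fun i => by
    obtain ⟨j, hj⟩ := hunit i
    have := congrArg φ hj
    rw [map_mul, RingHom.map_mulVec, map_one] at this
    exact left_ne_zero_of_mul_eq_one this
  have hαu : V *ᵥ α = φ ∘ u := by rw [hα, Matrix.mulVec_mulVec, hVV, Matrix.one_mulVec]
  have hcd : ∀ i, c i = d := fun i => by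
    have h1 : V *ᵥ (Matrix.diagonal c *ᵥ α) = V *ᵥ (d • α) := by
      rw [Matrix.mulVec_mulVec, ← hMV, ← Matrix.mulVec_mulVec, hαu, hd, Matrix.mulVec_smul, hαu]
    have h2 := congrFun (congrArg (V' *ᵥ ·) h1) i
    simp only [Matrix.mulVec_mulVec, ← Matrix.mul_assoc, hVV', Matrix.one_mul,
      Matrix.one_mulVec] at h2
    rw [Matrix.mulVec_diagonal, Pi.smul_apply, smul_eq_mul] at h2
    exact mul_right_cancel₀ (hα0 i) h2
  refine (mem_center_SU_iff hF hn g).2 ⟨d, ?_⟩
  show M = _
  calc M = M * V * V' := by rw [Matrix.mul_assoc, hVV, Matrix.mul_one]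
    _ = V * Matrix.scalar (Fin n) d * V' := by
      rw [hMV, show Matrix.diagonal c = Matrix.scalar (Fin n) d from by
        rw [show c = fun _ => d from funext hcd]; rfl]
    _ = Matrix.scalar (Fin n) d := by
      rw [← (Matrix.scalar_commute d (fun r => mul_comm _ _) V).eq, Matrix.mul_assoc, hVV,
        Matrix.mul_one]

end Cfsg.Agent.StabCert
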